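import Mathlib

/-!
Normal sets of involutions in which the product of two non-commuting members always has
order `p`, for a fixed odd prime `p ≥ 5`: elementary lemmas on lines and midpoints.
-/

set_option autoImplicit false

namespace Cfsg.Agent.TransP

variable {G : Type*} [Group G]

/-- `D` is a normal set of involutions, two non-commuting members having product of order `p`. -/
structure Sys (p : ℕ) (D : Set G) : Prop where
  prime : p.Prime
  five : 5 ≤ p
  sq : ∀ x ∈ D, x * x = 1
  ne_one : ∀ x ∈ D, x ≠ 1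
  normal : ∀ (g : G), ∀ x ∈ D, g * x * g⁻¹ ∈ D
  prod : ∀ x ∈ D, ∀ y ∈ D, ¬ Commute x y → (x * y) ^ p = 1

/-- A bad triple: `z` commutes with neither of the commuting members `a`, `w`, and the images
of `z` under `a` and `w` do not commute. -/
def Bad (D : Set G) (z a w : G) : Prop :=
  z ∈ D ∧ a ∈ D ∧ w ∈ D ∧ Commute a w ∧ ¬ Commute z a ∧ ¬ Commute z w ∧
    ¬ Commute (a * z * a) (w * z * w)

theorem cancel_inv {a : G} (h : a * a = 1) (x : G) : a * (a * x) = x := by
  rw [← mul_assoc, h, one_mul]

theorem inv_self {a : G} (h : a * a = 1) : a⁻¹ = a := inv_eq_of_mul_eq_one_right h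

theorem commute_iff_sq {a b : G} (ha : a * a = 1) (hb : b * b = 1) :
    Commute a b ↔ (a * b) * (a * b) = 1 := by
  constructor
  · intro h
    have : (a * b) * (a * b) = (a * a) * (b * b) := by
      rw [h.symm.mul_mul_mul_comm]
    rw [this, ha, hb, one_mul]
  · intro h
    have h1 := inv_eq_of_mul_eq_one_right h
    rw [mul_inv_rev, inv_self ha, inv_self hb] at h1
    exact h1.symm

/-- An element centralising `u ^ k` centralises `u` when `k` is prime to the order of `u`. -/
theorem commute_root {g u : G} {p k : ℕ} (hu : u ^ p = 1) (hk : Nat.Coprime k p)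
    (h : Commute g (u ^ k)) : Commute g u := by
  have e : u ^ Nat.gcd k p = (u ^ k) ^ Nat.gcdA k p * (u ^ p) ^ Nat.gcdB k p := by
    rw [← zpow_natCast, Nat.gcd_eq_gcd_ab, zpow_add, zpow_mul, zpow_mul, zpow_natCast,
      zpow_natCast]
  rw [hk, pow_one, hu, one_zpow, mul_one] at e
  rw [e]
  exact h.zpow_right _

theorem conj_pow_inverted {v u : G} (h : v * u * v⁻¹ = u⁻¹) (n : ℕ) :
    v ^ n * u * (v ^ n)⁻¹ = if Even n then u else u⁻¹ := by
  induction n with
  | zero => simp
  | succ n ih =>
    have e : v ^ (n + 1) * u * (v ^ (n + 1))⁻¹ = v * (v ^ n * u * (v ^ n)⁻¹) * v⁻¹ := by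
      rw [pow_succ']; group
    rw [e, ih]
    by_cases hn : Even n
    · simp [hn, h, Nat.even_add_one]
    · simp only [hn, if_false, Nat.even_add_one, not_false_eq_true, if_true]
      calc v * u⁻¹ * v⁻¹ = (v * u * v⁻¹)⁻¹ := by group
        _ = u := by rw [h, inv_inv]

/-- An element of odd order inverts no element other than involutions. -/
theorem sq_eq_one_of_inverted {v u : G} {n : ℕ} (hn : Odd n) (hv : v ^ n = 1)
    (h : v * u * v⁻¹ = u⁻¹) : u * u = 1 := by
  have e := conj_pow_inverted h n
  rw [hv, if_neg (Nat.not_even_iff_odd.2 hn)] at e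
  simp only [one_mul, inv_one, mul_one] at e
  nth_rw 2 [e]
  exact mul_inv_cancel u

namespace Sys

variable {p : ℕ} {D : Set G} (S : Sys p D)
include S

theorem odd : Odd p := S.prime.odd_of_ne_two (by have := S.five; omega)

theorem two_coprime : Nat.Coprime 2 p := Nat.Coprime.symm
  ((Nat.coprime_primes S.prime Nat.prime_two).2 (by have := S.five; omega))

theorem three_coprime : Nat.Coprime 3 p := Nat.Coprime.symm
  ((Nat.coprime_primes S.prime Nat.prime_three).2 (by have := S.five; omega))

theorem conj_mem {a x : G} (ha : a ∈ D) (hx : x ∈ D) : a * x * a ∈ D := by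
  have := S.normal a x hx
  rwa [inv_self (S.sq a ha)] at this

theorem not_commute_sq {x y : G} (hx : x ∈ D) (hy : y ∈ D) (h : ¬ Commute x y) :
    (x * y) * (x * y) ≠ 1 := fun e => h ((commute_iff_sq (S.sq x hx) (S.sq y hy)).2 e)

/-- An element centralising `z` and `a * z * a` centralises the line through `a` and `z`. -/
theorem line_closed {g z a : G} (hz : z ∈ D) (ha : a ∈ D) (hza : ¬ Commute a z)
    (h1 : Commute g z) (h2 : Commute g (a * z * a)) : Commute g a := by
  have h3 : Commute g ((a * z) ^ 2) := by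
    have e : (a * z) ^ 2 = (a * z * a) * z := by rw [pow_two]; group
    rw [e]; exact h2.mul_right h1
  have h4 := commute_root (S.prod a ha z hz hza) S.two_coprime h3
  have e : a = (a * z) * z := by rw [mul_assoc, S.sq z hz, mul_one]
  rw [e]
  exact h4.mul_right h1

theorem not_commute_conj {x a : G} (hx : x ∈ D) (ha : a ∈ D) (h : ¬ Commute x a) :
    ¬ Commute (a * x * a) x := by
  intro hc
  exact h (S.line_closed hx ha (fun e => h e.symm) (Commute.refl x) hc.symm)

theorem not_commute_conj' {x a : G} (hx : x ∈ D) (ha : a ∈ D) (h : ¬ Commute x a) :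
    ¬ Commute (a * x * a) a := by
  intro hc
  apply h
  have hh : Commute (a * (a * x * a) * a) (a * a * a) := by
    simpa [inv_self (S.sq a ha)] using (Commute.conj_iff a).2 hc
  rwa [mul_assoc a x a, cancel_inv (S.sq a ha), mul_assoc x, S.sq a ha, mul_one, one_mul] at hh

/-- If an involution `c` centralises the non-commuting members `x`, `y`, then `c * y ∉ D`. -/
theorem mul_not_mem {c x y : G} (hx : x ∈ D) (hy : y ∈ D) (hxy : ¬ Commute x y)
    (hc : c * c = 1) (hc1 : c ≠ 1) (hcx : Commute c x) (hcy : Commute c y) :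
    c * y ∉ D := by
  intro hd
  have e : x * (c * y) = c * (x * y) := by rw [← mul_assoc, ← hcx.eq, mul_assoc]
  have hcu : Commute c (x * y) := hcx.mul_right hcy
  by_cases h : Commute x (c * y)
  · have h' := (commute_iff_sq (S.sq x hx) (S.sq _ hd)).1 h
    rw [e, hcu.symm.mul_mul_mul_comm, hc, one_mul] at h'
    exact S.not_commute_sq hx hy hxy h'
  · have h' := S.prod x hx _ hd h
    rw [e, hcu.mul_pow, S.prod x hx y hy hxy, mul_one] at h'
    obtain ⟨m, hm⟩ := S.odd
    rw [hm, pow_succ, pow_mul, pow_two, hc, one_pow, one_mul] at h'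
    exact hc1 h'

/-- If a member commutes with the product of two distinct commuting members, it commutes with
each of them. -/
theorem commute_of_commute_mul {d x y : G} (hd : d ∈ D) (hx : x ∈ D) (hy : y ∈ D) (hne : x ≠ y)
    (hxy : Commute x y) (h : Commute d (x * y)) : Commute d x := by
  by_contra hdx
  have hc : (x * y) * (x * y) = 1 := (commute_iff_sq (S.sq x hx) (S.sq y hy)).1 hxy
  have hc1 : x * y ≠ 1 := fun e => hne (by
    have := inv_eq_of_mul_eq_one_right e
    rwa [inv_self (S.sq x hx)] at this)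
  have hcx : Commute (x * y) x := (Commute.refl x).mul_left hxy.symm
  apply S.mul_not_mem hd hx hdx hc hc1 h.symm hcx
  rw [mul_assoc, ← hxy.eq, cancel_inv (S.sq x hx)]
  exact hy

/-- At most one member conjugates `g` to a given non-commuting member. -/
theorem mid_unique {g d d' : G} (hg : g ∈ D) (hd : d ∈ D) (hd' : d' ∈ D)
    (hgd : ¬ Commute g d) (h : d * g * d = d' * g * d') : d = d' := by
  by_contra hne
  have hu : Commute g (d * d') := by
    have e : (d * d') * g * (d * d')⁻¹ = g := by
      rw [mul_inv_rev, inv_self (S.sq d hd), inv_self (S.sq d' hd')]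
      calc d * d' * g * (d' * d) = d * (d' * g * d') * d := by group
        _ = g := by
          rw [← h]
          simp only [mul_assoc, cancel_inv (S.sq d hd), S.sq d hd, mul_one]
    exact (eq_mul_of_mul_inv_eq e).symm
  by_cases hdd : Commute d d'
  · exact hgd (S.commute_of_commute_mul hg hd hd' hne hdd hu)
  · have hv : (g * d) * (d * d') * (g * d)⁻¹ = (d * d')⁻¹ := by
      rw [mul_inv_rev, inv_self (S.sq d hd), inv_self (S.sq g hg), mul_inv_rev,
        inv_self (S.sq d hd), inv_self (S.sq d' hd')]
      calc g * d * (d * d') * (d * g) = g * (d' * d) * g := by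
            simp only [mul_assoc, cancel_inv (S.sq d hd)]
        _ = d' * d := by
          have h' : Commute g (d' * d) := by
            have := hu.inv_right
            rwa [mul_inv_rev, inv_self (S.sq d hd), inv_self (S.sq d' hd')] at this
          rw [h'.eq, mul_assoc, S.sq g hg, mul_one]
    exact S.not_commute_sq hd hd' hdd
      (sq_eq_one_of_inverted S.odd (S.prod g hg d hd hgd) hv)

/-- Two non-commuting members have a midpoint. -/
theorem exists_mid {z z' : G} (hz : z ∈ D) (hz' : z' ∈ D) (h : ¬ Commute z z') :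
    ∃ d ∈ D, d * z * d = z' ∧ ¬ Commute d z ∧
      (∀ g : G, Commute g z → Commute g z' → Commute g d) ∧
      (∀ t : G, t * z * t⁻¹ = z' → t * z' * t⁻¹ = z → Commute t d) := by
  obtain ⟨m, hm⟩ := S.odd
  have hzz := S.sq z hz
  have hzz' := S.sq z' hz'
  set u := z * z' with hu
  have hup : u ^ p = 1 := S.prod z hz z' hz' h
  set k := m + 1 with hk
  have hinv : ∀ j : ℕ, z * u ^ j * z = (u ^ j)⁻¹ := by
    intro j
    have e : z * u * z⁻¹ = u⁻¹ := by
      rw [inv_self hzz, hu, cancel_inv hzz, mul_inv_rev, inv_self hzz, inv_self hzz']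
    calc z * u ^ j * z = (z * u * z⁻¹) ^ j := by rw [conj_pow, inv_self hzz]
      _ = (u ^ j)⁻¹ := by rw [e, inv_pow]
  have h2k : u ^ (k + k) = u := by
    rw [show k + k = p + 1 by omega, pow_succ, hup, one_mul]
  set d := z * u ^ k with hd
  have hdD : d ∈ D := by
    have e : (u ^ (k * k))⁻¹ * z * u ^ (k * k) = d := by
      calc (u ^ (k * k))⁻¹ * z * u ^ (k * k) = z * u ^ (k * k) * z * z * u ^ (k * k) := by
            rw [hinv]
        _ = z * (u ^ (k * k) * u ^ (k * k)) := by
            simp only [mul_assoc, cancel_inv hzz]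
        _ = d := by
            rw [← pow_add, show k * k + k * k = p * k + k by rw [hm, hk]; ring, pow_add, pow_mul,
              hup, one_pow, one_mul]
    have := S.normal (u ^ (k * k))⁻¹ z hz
    rwa [inv_inv, e] at this
  have hdz : d * z * d = z' := by
    calc d * z * d = z * u ^ k * (z * z) * u ^ k := by rw [hd]; group
      _ = z * u ^ (k + k) := by rw [hzz, mul_one, mul_assoc, ← pow_add]
      _ = z' := by rw [h2k, hu, cancel_inv hzz]
  refine ⟨d, hdD, hdz, ?_, ?_, ?_⟩
  · intro hc
    apply h
    rw [← hdz, hc.eq, mul_assoc, S.sq d hdD, mul_one]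
  · intro g h1 h2
    exact h1.mul_right ((h1.mul_right h2).pow_right k)
  · intro t h1 h2
    have e : t * d * t⁻¹ = z' * (u ^ k)⁻¹ := by
      calc t * d * t⁻¹ = (t * z * t⁻¹) * (t * u ^ k * t⁻¹) := by rw [hd]; group
        _ = z' * (u ^ k)⁻¹ := by
          have : t * u * t⁻¹ = u⁻¹ := by
            calc t * u * t⁻¹ = (t * z * t⁻¹) * (t * z' * t⁻¹) := by rw [hu]; group
              _ = u⁻¹ := by rw [h1, h2, hu, mul_inv_rev, inv_self hzz, inv_self hzz']
          rw [h1, ← conj_pow, this, inv_pow]
    have e2 : z' * (u ^ k)⁻¹ = d := by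
      rw [hd, mul_inv_eq_iff_eq_mul, mul_assoc, ← pow_add, h2k, hu, cancel_inv hzz]
    rw [e2] at e
    exact mul_inv_eq_iff_eq_mul.1 e

end Sys

end Cfsg.Agent.TransP
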