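import Cfsg.Agent.Lib.Spor.TransP.NoBad

/-!
Commuting is transitive in a smallest configuration with a bad triple; counting the classes of
commuting members modulo `p` excludes it.
-/

set_option autoImplicit false

namespace Cfsg.Agent.TransP

universe u

variable {G : Type u} [Group G] {p : ℕ} {D : Set G}

/-- The kernel of the action on the classes of commuting members. -/
def kern (S : Sys p D) (T : ∀ x ∈ D, ∀ y ∈ D, ∀ y' ∈ D, Commute x y → Commute x y' → Commute y y') :
    Subgroup G where
  carrier := {n | ∀ g ∈ D, Commute (n * g * n⁻¹) g}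
  one_mem' := by intro g _; simp
  mul_mem' := by
    intro m n hm hn g hg
    have h1 := hn g hg
    have h2 := hm _ (S.normal n g hg)
    have e : m * n * g * (m * n)⁻¹ = m * (n * g * n⁻¹) * m⁻¹ := by group
    rw [e]
    exact T _ (S.normal n g hg) _ (S.normal m _ (S.normal n g hg)) _ hg h2.symm h1
  inv_mem' := by
    intro n hn g hg
    have := hn _ (S.normal n⁻¹ g hg)
    rw [show n * (n⁻¹ * g * n⁻¹⁻¹) * n⁻¹ = g by group] at this
    exact this.symm

theorem kern_normal (S : Sys p D)
    (T : ∀ x ∈ D, ∀ y ∈ D, ∀ y' ∈ D, Commute x y → Commute x y' → Commute y y') :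
    (kern S T).Normal := ⟨fun n hn c g hg => by
  have := (Commute.conj_iff c).2 (hn _ (S.normal c⁻¹ g hg))
  rw [show c * (n * (c⁻¹ * g * c⁻¹⁻¹) * n⁻¹) * c⁻¹ = c * n * c⁻¹ * g * (c * n * c⁻¹)⁻¹ by group,
    show c * (c⁻¹ * g * c⁻¹⁻¹) * c⁻¹ = g by group] at this
  exact this⟩

/-- Two members which do not commute are conjugate. -/
theorem Sys.isConj_of_not_commute (S : Sys p D) {x y : G} (hx : x ∈ D) (hy : y ∈ D)
    (h : ¬ Commute x y) : IsConj x y := by
  obtain ⟨d, hd, e, -⟩ := S.exists_mid hx hy h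
  exact isConj_iff.2 ⟨d, by rw [inv_self (S.sq d hd), e]⟩

namespace Minimal

variable [Finite G] {z a w : G} (M : Minimal p D z a w)
include M

theorem four {x m y c : G} (hx : x ∈ D) (hm : m ∈ D) (hy : y ∈ D) (hc : c ∈ D)
    (hxm : Commute x m) (hym : Commute y m) (hyc : Commute y c) (hxy : ¬ Commute x y)
    (hcm : ¬ Commute c m) : Commute x c :=
  four_path M.sys (fun _ _ _ B => M.bad_mul_mem B) hx hm hy hc hxm hym hyc hxy hcm

theorem near_path {x g h c : G} (hx : x ∈ D) (hg : g ∈ D) (hh : h ∈ D) (hc : c ∈ D)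
    (h1 : Commute x g) (h2 : Commute g h) (h3 : Commute h c) :
    ∃ g' ∈ D, Commute g' x ∧ Commute g' c := by
  by_cases hxh : Commute x h
  · exact ⟨h, hh, hxh.symm, h3⟩
  by_cases hgc : Commute g c
  · exact ⟨g, hg, h1.symm, hgc⟩
  exact ⟨x, hx, Commute.refl x, M.four hx hg hh hc h1 h2.symm h3 hxh (fun e => hgc e.symm)⟩

theorem near_trans {x y c : G} (hx : x ∈ D) (hy : y ∈ D) (hc : c ∈ D)
    (h1 : ∃ g ∈ D, Commute g x ∧ Commute g y) (h2 : ∃ g ∈ D, Commute g y ∧ Commute g c) :
    ∃ g ∈ D, Commute g x ∧ Commute g c := by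
  obtain ⟨g, hg, hgx, hgy⟩ := h1
  obtain ⟨h, hh, hhy, hhc⟩ := h2
  obtain ⟨g', hg', hg'x, hg'h⟩ := M.near_path hx hg hy hh hgx.symm hgy hhy.symm
  exact M.near_path hx hg' hh hc hg'x.symm hg'h hhc

theorem not_near : ¬ ∃ g ∈ D, Commute g z ∧ Commute g a := by
  rintro ⟨g, hg, hgz, hga⟩
  obtain ⟨-, -, -, haw, hza, hzw, -⟩ := M.bad
  have hgw : Commute g w := by
    by_contra h
    exact hzw (M.four M.hz hg M.ha M.hw hgz.symm hga.symm haw hza (fun e => h e.symm))
  have hcen : ∀ x : G, Commute x g := by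
    intro x
    have hx : x ∈ Subgroup.centralizer ({g} : Set G) := by
      refine (Subgroup.closure_le _).2 ?_ (M.closure_eq_top ▸ Subgroup.mem_top x)
      intro y hy
      rcases hy with rfl | rfl | rfl
      · exact Subgroup.mem_centralizer_singleton_iff.2 hgz.symm.eq
      · exact Subgroup.mem_centralizer_singleton_iff.2 hga.symm.eq
      · exact Subgroup.mem_centralizer_singleton_iff.2 hgw.symm.eq
    exact Subgroup.mem_centralizer_singleton_iff.1 hx
  rcases M.no_quotient (M.sys.sq g hg) (M.sys.ne_one g hg) ⊤ (fun x _ => hcen x)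
      (Subgroup.mem_top g) M.bad (Subgroup.mem_top _) (Subgroup.mem_top _) (Subgroup.mem_top _)
    with rfl | rfl | rfl
  · exact hza hga
  · exact hza hgz.symm
  · exact hzw hgz.symm

/-- In a smallest configuration commuting is transitive. -/
theorem commute_trans : ∀ x ∈ D, ∀ y ∈ D, ∀ y' ∈ D, Commute x y → Commute x y' → Commute y y' := by
  intro x hx y hy y' hy' h h'
  by_contra hne
  have S := M.sys
  obtain ⟨hz, ha, hw, haw, hza, hzw, himg⟩ := M.bad
  -- move the pair to `a`
  obtain ⟨c, hc⟩ := isConj_iff.1 (M.tr x hx a ha)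
  set b := c * y * c⁻¹ with hb
  set b' := c * y' * c⁻¹ with hb'
  have hbD : b ∈ D := S.normal c y hy
  have hb'D : b' ∈ D := S.normal c y' hy'
  have hab : Commute a b := hc ▸ (Commute.conj_iff c).2 h
  have hab' : Commute a b' := hc ▸ (Commute.conj_iff c).2 h'
  have hbb' : ¬ Commute b b' := fun e => hne ((Commute.conj_iff c).1 e)
  have hP : a * w ∈ D := M.bad_mul_mem M.bad
  have hwb : Commute w b := by
    by_contra hn
    exact S.mul_not_mem hbD hw (fun e => hn e.symm) (S.sq a ha) (S.ne_one a ha) hab haw hP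
  have hwb' : Commute w b' := by
    by_contra hn
    exact S.mul_not_mem hb'D hw (fun e => hn e.symm) (S.sq a ha) (S.ne_one a ha) hab' haw hP
  have hb'b : ¬ Commute b' b := fun e => hbb' e.symm
  have hn1 : a * b ∉ D := S.mul_not_mem hb'D hbD hb'b (S.sq a ha) (S.ne_one a ha) hab' hab
  have hn2 : b * w ∉ D := by
    rw [← hwb.eq]
    exact S.mul_not_mem hb'D hbD hb'b (S.sq w hw) (S.ne_one w hw) hwb' hwb
  have hzb : ¬ Commute z b := fun e => M.not_near ⟨b, hbD, e.symm, hab.symm⟩
  have hg1 : Commute (a * z * a) (b * z * b) := by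
    by_contra hn
    exact hn1 (M.bad_mul_mem ⟨hz, ha, hbD, hab, hza, hzb, hn⟩)
  have hg2 : Commute (b * z * b) (w * z * w) := by
    by_contra hn
    exact hn2 (M.bad_mul_mem ⟨hz, hbD, hw, hwb.symm, hzb, hzw, hn⟩)
  set z1 := a * z * a with hz1
  set z2 := w * z * w with hz2
  set g := b * z * b with hg
  have hz1D : z1 ∈ D := S.conj_mem ha hz
  have hz2D : z2 ∈ D := S.conj_mem hw hz
  have hgD : g ∈ D := S.conj_mem hbD hz
  obtain ⟨d, hd, hdz, hdn, hdg, -⟩ := S.exists_mid hz1D hz2D himg
  have he : a * w * z1 * (a * w) = z2 := by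
    calc a * w * z1 * (a * w) = (w * a) * (a * z * a) * (a * w) := by rw [← haw.eq, hz1]
      _ = z2 := by rw [hz2]; simp only [mul_assoc, cancel_inv (S.sq a ha)]
  have hde : d = a * w :=
    S.mid_unique hz1D hd hP (fun e => hdn e.symm) (by rw [hdz, he])
  have hge : Commute (a * w) g := hde ▸ (hdg g hg1.symm hg2).symm
  have h1 : ∃ k ∈ D, Commute k a ∧ Commute k g :=
    ⟨a * w, hP, (Commute.refl a).mul_left haw.symm, hge⟩
  have h2 : ∃ k ∈ D, Commute k g ∧ Commute k z1 := ⟨g, hgD, Commute.refl g, hg1.symm⟩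
  obtain ⟨k, hk, hka, hkz1⟩ := M.near_trans ha hgD hz1D h1 h2
  refine M.not_near ⟨a * k * a, S.conj_mem ha hk, ?_, ?_⟩
  · have := (Commute.conj_iff a).2 hkz1
    rwa [inv_self (S.sq a ha), hz1, show a * (a * z * a) * a = z by
      simp only [mul_assoc, cancel_inv (S.sq a ha), S.sq a ha, mul_one]] at this
  · exact ((Commute.refl a).mul_left hka).mul_left (Commute.refl a)

/-- In a smallest configuration the product of two commuting members is a member. -/
theorem mul_mem {x y : G} (hx : x ∈ D) (hy : y ∈ D) (hne : x ≠ y) (hxy : Commute x y) :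
    x * y ∈ D := by
  by_contra hno
  have S := M.sys
  have T := M.commute_trans
  obtain ⟨hz, ha, hw, -, hza, -, -⟩ := M.bad
  have hxx := S.sq x hx
  have hyy := S.sq y hy
  have hti : (x * y)⁻¹ = x * y := by rw [mul_inv_rev, inv_self hxx, inv_self hyy, hxy.eq]
  have ht : x * y ∈ kern S T := by
    intro g hg
    by_cases hgx : Commute g x
    · have hgy : Commute g y := T x hx g hg y hy hgx.symm hxy
      rw [(hgx.mul_right hgy).symm.eq, mul_inv_cancel_right]
    · have hgy : ¬ Commute g y := fun e => hgx (T y hy g hg x hx e.symm hxy.symm)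
      have h1 : Commute (x * g * x) (y * g * y) := by
        by_contra hn
        exact hno (M.bad_mul_mem ⟨hg, hx, hy, hxy, hgx, hgy, hn⟩)
      have := (Commute.conj_iff x).2 h1
      rw [inv_self hxx] at this
      have e1 : x * (x * g * x) * x = g := by
        simp only [mul_assoc, cancel_inv hxx, hxx, mul_one]
      have e2 : x * (y * g * y) * x = x * y * g * (x * y)⁻¹ := by
        calc x * (y * g * y) * x = x * y * g * (y * x) := by group
          _ = _ := by rw [hti, hxy.eq]
      rw [e1, e2] at this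
      exact this.symm
  haveI := kern_normal S T
  have hne' : kern S T ≠ ⊥ := fun e => hne (by
    have := inv_eq_of_mul_eq_one_right (Subgroup.mem_bot.1 (e ▸ ht))
    rwa [inv_self hxx] at this)
  let f := QuotientGroup.mk' (kern S T)
  have hf : ∀ n : G, f n = 1 ↔ n ∈ kern S T := fun n => by
    rw [← MonoidHom.mem_ker, QuotientGroup.ker_mk']
  have hout : ∀ v ∈ D, f v ≠ 1 := by
    intro v hv e
    have key : ∀ g ∈ D, Commute v g := by
      intro g hg
      by_contra hn
      have := (hf v).1 e g hg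
      rw [inv_self (S.sq v hv)] at this
      exact S.not_commute_conj hg hv (fun c => hn c.symm) this
    exact hza (T v hv z hz a ha (key z hz) (key a ha))
  refine M.small _ (card_quotient_lt hne') _ (S.map f (QuotientGroup.mk'_surjective _)) _ _ _
    (S.bad_map f M.bad (hout z hz) (hout a ha) (hout w hw) ?_)
  intro u hu v hv huv e
  have := (hf _).1 e v hv
  rw [mul_inv_rev, inv_self (S.sq u hu), inv_self (S.sq v hv)] at this
  refine S.not_commute_conj hv hu (fun c => huv c.symm) ?_
  simpa only [mul_assoc, cancel_inv (S.sq v hv)] using this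

end Minimal

end Cfsg.Agent.TransP
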