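import Cfsg.Agent.Lib.Spor.TransP.Blocks

/-!
Counting the classes of commuting members fixed by the products of two members, modulo `p`:
there is no bad triple at all.
-/

set_option autoImplicit false

namespace Cfsg.Agent.TransP

universe u

variable {G : Type u} [Group G]

/-- Conjugation as a permutation of the finite subsets. -/
noncomputable def conjFinset : G →* Equiv.Perm (Finset G) where
  toFun u := (MulAut.conj u).toEquiv.finsetCongr
  map_one' := by
    ext s x
    simp only [Equiv.finsetCongr_apply, Finset.mem_map, Equiv.Perm.one_apply]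
    constructor
    · rintro ⟨y, hy, rfl⟩; simpa using hy
    · intro h; exact ⟨x, h, by simp⟩
  map_mul' u v := by
    ext s x
    simp only [Equiv.finsetCongr_apply, Finset.mem_map, Equiv.Perm.mul_apply]
    constructor
    · rintro ⟨y, hy, rfl⟩; exact ⟨_, ⟨y, hy, rfl⟩, by simp [mul_assoc]⟩
    · rintro ⟨-, ⟨y, hy, rfl⟩, rfl⟩; exact ⟨y, hy, by simp [mul_assoc]⟩

theorem mem_conjFinset {u x : G} {s : Finset G} :
    x ∈ conjFinset u s ↔ u⁻¹ * x * u ∈ s := by
  simp only [conjFinset, MonoidHom.coe_mk, OneHom.coe_mk, Equiv.finsetCongr_apply, Finset.mem_map]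
  constructor
  · rintro ⟨y, hy, rfl⟩
    simpa [mul_assoc] using hy
  · intro h
    exact ⟨_, h, by simp [mul_assoc]⟩

/-- The number of fixed points of a permutation of order dividing a prime, modulo that prime. -/
theorem card_fixed_modEq {α : Type*} [DecidableEq α] {p : ℕ} (hp : p.Prime) (e : Equiv.Perm α)
    (he : e ^ p = 1) (s : Finset α) (hs : ∀ x, e x ∈ s ↔ x ∈ s) :
    (s.filter (fun x => e x = x)).card ≡ s.card [MOD p] := by
  haveI := Fact.mk hp
  let σ : Equiv.Perm {x // x ∈ s} := e.subtypePerm hs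
  have hσ : σ ^ p ^ 1 = 1 := by
    rw [pow_one]
    ext x
    simp [σ, Equiv.Perm.subtypePerm_pow, he]
  have h := Equiv.Perm.card_compl_support_modEq hσ
  rw [Fintype.card_coe] at h
  have : σ.supportᶜ.card = (s.filter (fun x => e x = x)).card := by
    refine Finset.card_bij (fun x _ => (x : α)) ?_ (fun _ _ _ _ h => Subtype.ext h) ?_
    · intro x hx
      simp only [Finset.mem_compl, Equiv.Perm.mem_support, not_not] at hx
      exact Finset.mem_filter.2 ⟨x.2, congrArg Subtype.val hx⟩
    · intro x hx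
      obtain ⟨h1, h2⟩ := Finset.mem_filter.1 hx
      refine ⟨⟨x, h1⟩, ?_, rfl⟩
      simp only [Finset.mem_compl, Equiv.Perm.mem_support, not_not]
      exact Subtype.ext h2
  rwa [this] at h

namespace Minimal

open scoped Classical

theorem false_of [Finite G] {p : ℕ} {D : Set G} {z a w : G} (M : Minimal p D z a w) : False := by
  have S := M.sys
  have T := M.commute_trans
  have hp := S.prime
  obtain ⟨hz, ha, hw, haw, hza, -, himg⟩ := M.bad
  have hfin : D.Finite := Set.toFinite D
  set V := hfin.toFinset with hV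
  have hmV : ∀ {x : G}, x ∈ V ↔ x ∈ D := fun {x} => hfin.mem_toFinset
  set blk : G → Finset G := fun g => V.filter (fun x => Commute g x) with hblk
  have hmb : ∀ {g x : G}, x ∈ blk g ↔ x ∈ D ∧ Commute g x := by
    intro g x; simp [hblk, hmV]
  have hblk_eq : ∀ {g g' : G}, g ∈ D → g' ∈ D → (blk g = blk g' ↔ Commute g g') := by
    intro g g' hg hg'
    constructor
    · intro h
      exact (hmb.1 (h ▸ hmb.2 ⟨hg', Commute.refl g'⟩ : g' ∈ blk g)).2
    · intro h
      ext x
      rw [hmb, hmb]
      constructor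
      · rintro ⟨hx, hgx⟩
        exact ⟨hx, T g hg g' hg' x hx h hgx⟩
      · rintro ⟨hx, hgx⟩
        exact ⟨hx, T g' hg' g hg x hx h.symm hgx⟩
  have hact : ∀ (u g : G), g ∈ D → conjFinset u (blk g) = blk (u * g * u⁻¹) := by
    intro u g hg
    ext x
    rw [mem_conjFinset, hmb, hmb]
    constructor
    · rintro ⟨h1, h2⟩
      have h1' := S.normal u _ h1
      have h2' := (Commute.conj_iff u).2 h2
      rw [show u * (u⁻¹ * x * u) * u⁻¹ = x by group] at h1' h2'
      exact ⟨h1', h2'⟩
    · rintro ⟨h1, h2⟩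
      refine ⟨by simpa using S.normal u⁻¹ x h1, ?_⟩
      have h2' := (Commute.conj_iff u⁻¹).2 h2
      rw [inv_inv, show u⁻¹ * (u * g * u⁻¹) * u = g by group] at h2'
      exact h2'
  set b := (blk a).card with hbdef
  have hbg : ∀ g ∈ D, (blk g).card = b := by
    intro g hg
    obtain ⟨c, hc⟩ := isConj_iff.1 (M.tr a ha g hg)
    rw [hbdef, ← hc, ← hact c a ha]
    exact Finset.card_map _
  have hb2 : 2 ≤ b := by
    have hne : a ≠ w := fun e => himg (by rw [e])
    have : ({a, w} : Finset G) ⊆ blk a := by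
      intro x hx
      simp only [Finset.mem_insert, Finset.mem_singleton] at hx
      rcases hx with rfl | rfl
      · exact hmb.2 ⟨ha, Commute.refl _⟩
      · exact hmb.2 ⟨hw, haw⟩
    have := Finset.card_le_card this
    rwa [Finset.card_pair hne] at this
  set Bs := V.image blk with hBs
  set n := Bs.card with hn
  have hfib : ∀ g ∈ D, V.filter (fun x => blk x = blk g) = blk g := by
    intro g hg
    ext x
    rw [Finset.mem_filter, hmb, hmV]
    exact ⟨fun h => ⟨h.1, ((hblk_eq h.1 hg).1 h.2).symm⟩,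
      fun h => ⟨h.1, (hblk_eq h.1 hg).2 h.2.symm⟩⟩
  have hv : V.card = n * b := by
    rw [Finset.card_eq_sum_card_image blk V, Finset.sum_const_nat (m := b)]
    intro B hB
    obtain ⟨g, hg, rfl⟩ := Finset.mem_image.1 hB
    rw [hfib g (hmV.1 hg), hbg g (hmV.1 hg)]
  set F : G → ℕ := fun u => (Bs.filter (fun B => conjFinset u B = B)).card with hF
  set N : G → Finset G := fun u => V.filter (fun g => Commute (u * g * u⁻¹) g) with hN
  have hNF : ∀ u, (N u).card = F u * b := by
    intro u
    have hmaps : ∀ g ∈ N u, blk g ∈ Bs.filter (fun B => conjFinset u B = B) := by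
      intro g hg
      simp only [hN, Finset.mem_filter] at hg
      refine Finset.mem_filter.2 ⟨Finset.mem_image_of_mem _ hg.1, ?_⟩
      rw [hact u g (hmV.1 hg.1)]
      exact (hblk_eq (S.normal u g (hmV.1 hg.1)) (hmV.1 hg.1)).2 hg.2
    rw [Finset.card_eq_sum_card_fiberwise hmaps, Finset.sum_const_nat (m := b)]
    intro B hB
    obtain ⟨hB, hfix⟩ := Finset.mem_filter.1 hB
    obtain ⟨g, hg, rfl⟩ := Finset.mem_image.1 hB
    have hg' := hmV.1 hg
    have : (N u).filter (fun x => blk x = blk g) = blk g := by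
      conv_rhs => rw [← hfib g hg']
      ext x
      simp only [hN, Finset.mem_filter]
      refine ⟨fun h => ⟨h.1.1, h.2⟩, fun h => ⟨⟨h.1, ?_⟩, h.2⟩⟩
      rw [hact u g hg', ← h.2] at hfix
      have hx := hmV.1 h.1
      have hux := S.normal u x hx
      refine (hblk_eq hux hx).1 ?_
      rw [← hact u x hx, h.2, hact u g hg', hfix, h.2]
    rw [this, hbg g hg']
  have hFmod : ∀ u : G, u ^ p = 1 → F u ≡ n [MOD p] := by
    intro u hu
    refine card_fixed_modEq hp (conjFinset u) (by rw [← map_pow, hu, map_one]) Bs ?_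
    have fwd : ∀ (c : G), ∀ B ∈ Bs, conjFinset c B ∈ Bs := by
      intro c B hB
      obtain ⟨g, hg, rfl⟩ := Finset.mem_image.1 hB
      rw [hact c g (hmV.1 hg)]
      exact Finset.mem_image_of_mem _ (hmV.2 (S.normal c g (hmV.1 hg)))
    intro B
    refine ⟨fun h => ?_, fwd u B⟩
    have := fwd u⁻¹ _ h
    rwa [← Equiv.Perm.mul_apply, ← map_mul, inv_mul_cancel, map_one, Equiv.Perm.one_apply] at this
  -- fix a member
  set Z := V.filter (fun x => ¬ Commute a x) with hZ
  have hmZ : ∀ {x : G}, x ∈ Z ↔ x ∈ D ∧ ¬ Commute a x := by intro x; simp [hZ, hmV]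
  have hk : b + Z.card = n * b := by
    rw [← hv, hbdef]
    exact Finset.card_filter_add_card_filter_not (fun x => Commute a x)
  have hkpos : 0 < Z.card := Finset.card_pos.2 ⟨z, hmZ.2 ⟨hz, fun e => hza e.symm⟩⟩
  have hup : ∀ d' ∈ Z, (d' * a) ^ p = 1 := fun d' hd' =>
    S.prod d' (hmZ.1 hd').1 a ha (fun e => (hmZ.1 hd').2 e.symm)
  have hkey : ∀ d' ∈ Z, ∀ g ∈ N (d' * a), g ∈ D ∧ ¬ Commute a g ∧ ¬ Commute d' g ∧
      Commute (a * g * a) (d' * g * d') := by
    intro d' hd' g hg
    obtain ⟨hd'D, hd'a⟩ := hmZ.1 hd'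
    simp only [hN, Finset.mem_filter] at hg
    obtain ⟨hgV, hc⟩ := hg
    have hgD := hmV.1 hgV
    rw [mul_inv_rev, inv_self (S.sq a ha), inv_self (S.sq d' hd'D)] at hc
    have hc' : Commute (a * g * a) (d' * g * d') := by
      have := (Commute.conj_iff d').2 hc
      rw [inv_self (S.sq d' hd'D)] at this
      rwa [show d' * (d' * a * g * (a * d')) * d' = a * g * a by
        simp only [mul_assoc, cancel_inv (S.sq d' hd'D), S.sq d' hd'D, mul_one]] at this
    have fix : ∀ {x y : G}, x ∈ D → Commute x y → x * y * x = y := fun {x y} hx h => by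
      rw [h.eq, mul_assoc, S.sq x hx, mul_one]
    refine ⟨hgD, fun hag => ?_, fun hdg => ?_, hc'⟩
    · rw [fix ha hag] at hc'
      have hdg : Commute d' g := by
        by_contra hn
        exact S.not_commute_conj hgD hd'D (fun e => hn e.symm) hc'.symm
      exact hd'a (T g hgD a ha d' hd'D hag.symm hdg.symm)
    · rw [fix hd'D hdg] at hc'
      have hag : Commute a g := by
        by_contra hn
        exact S.not_commute_conj hgD ha (fun e => hn e.symm) hc'
      exact hd'a (T g hgD a ha d' hd'D hag.symm hdg.symm)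
  -- the double count
  have hsum : ∑ d' ∈ Z, (N (d' * a)).card = Z.card * (b - 1) := by
    rw [← Finset.card_sigma]
    have hr : ∀ g ∈ Z, ((blk (a * g * a)).erase (a * g * a)).card = b - 1 := by
      intro g hg
      have hh := S.conj_mem ha (hmZ.1 hg).1
      rw [Finset.card_erase_of_mem (hmb.2 ⟨hh, Commute.refl _⟩), hbg _ hh]
    rw [← Finset.sum_const_nat (f := fun g => ((blk (a * g * a)).erase (a * g * a)).card) hr,
      ← Finset.card_sigma]
    refine Finset.card_bij
      (fun (x : Σ _ : G, G) _ => (⟨x.2, x.1 * x.2 * x.1⟩ : Σ _ : G, G)) ?_ ?_ ?_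
    · rintro ⟨d', g⟩ hx
      simp only [Finset.mem_sigma] at hx ⊢
      obtain ⟨hgD, hag, hdg, hc⟩ := hkey d' hx.1 g hx.2
      obtain ⟨hd'D, hd'a⟩ := hmZ.1 hx.1
      refine ⟨hmZ.2 ⟨hgD, hag⟩, Finset.mem_erase.2 ⟨fun e => ?_,
        hmb.2 ⟨S.conj_mem hd'D hgD, hc⟩⟩⟩
      exact hd'a (by rw [S.mid_unique hgD ha hd'D (fun h => hag h.symm) e.symm])
    · rintro ⟨d1, g1⟩ hx ⟨d2, g2⟩ hy he
      simp only [Finset.mem_sigma] at hx hy
      simp only [Sigma.mk.injEq, heq_eq_eq] at he
      obtain ⟨rfl, he⟩ := he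
      obtain ⟨hgD, -, hdg, -⟩ := hkey d1 hx.1 g1 hx.2
      have := S.mid_unique hgD (hmZ.1 hx.1).1 (hmZ.1 hy.1).1 (fun h => hdg h.symm) he
      rw [this]
    · rintro ⟨g, h⟩ hx
      simp only [Finset.mem_sigma] at hx
      obtain ⟨hgD, hag⟩ := hmZ.1 hx.1
      obtain ⟨hne, hh⟩ := Finset.mem_erase.1 hx.2
      obtain ⟨hhD, hc⟩ := hmb.1 hh
      have hh0 := S.conj_mem ha hgD
      have hgh : ¬ Commute g h := fun e => S.not_commute_conj hgD ha (fun c => hag c.symm)
        (T h hhD _ hh0 g hgD hc.symm e.symm)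
      obtain ⟨d', hd', hdh, -, -, -⟩ := S.exists_mid hgD hhD hgh
      have hd'a : ¬ Commute a d' := by
        intro hc2
        have hne2 : a ≠ d' := fun e => hne (by rw [← hdh, e])
        have he : a * d' ∈ D := M.mul_mem ha hd' hne2 hc2
        rw [← hdh] at hc
        have := (Commute.conj_iff a).2 hc
        rw [inv_self (S.sq a ha), show a * (a * g * a) * a = g by
          simp only [mul_assoc, cancel_inv (S.sq a ha), S.sq a ha, mul_one],
          show a * (d' * g * d') * a = a * d' * g * (a * d') by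
            calc a * (d' * g * d') * a = a * d' * g * (d' * a) := by group
              _ = _ := by rw [← hc2.eq]] at this
        have hge : Commute g (a * d') := by
          by_contra hn
          exact S.not_commute_conj hgD he hn this.symm
        have hea : Commute (a * d') a := (Commute.refl a).mul_left hc2.symm
        exact hag (T _ he a ha g hgD hea hge.symm)
      refine ⟨⟨d', g⟩, ?_, by simp [hdh]⟩
      simp only [Finset.mem_sigma]
      refine ⟨hmZ.2 ⟨hd', hd'a⟩, ?_⟩
      simp only [hN, Finset.mem_filter]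
      refine ⟨hmV.2 hgD, ?_⟩
      rw [← hdh] at hc
      have := (Commute.conj_iff d').2 hc
      rw [inv_self (S.sq d' hd'), show d' * (d' * g * d') * d' = g by
        simp only [mul_assoc, cancel_inv (S.sq d' hd'), S.sq d' hd', mul_one]] at this
      rw [mul_inv_rev, inv_self (S.sq a ha), inv_self (S.sq d' hd'),
        show d' * a * g * (a * d') = d' * (a * g * a) * d' by group]
      exact this
  -- some product fixes no class
  have hn0 : p ∣ n := by
    by_contra hpn
    have : ∀ d' ∈ Z, b ≤ (N (d' * a)).card := by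
      intro d' hd'
      rw [hNF]
      refine Nat.le_mul_of_pos_left _ (Nat.pos_of_ne_zero fun h0 => hpn ?_)
      have := hFmod _ (hup d' hd')
      rw [h0] at this
      exact (Nat.modEq_zero_iff_dvd.1 this.symm)
    have h2 := Finset.card_nsmul_le_sum Z (fun d' => (N (d' * a)).card) b this
    rw [hsum, smul_eq_mul] at h2
    have := Nat.le_of_mul_le_mul_left h2 hkpos
    omega
  -- some product fixes a class without fixing one of its members
  have hb0 : p ∣ b := by
    have hpos : 0 < ∑ d' ∈ Z, (N (d' * a)).card := by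
      rw [hsum]; exact Nat.mul_pos hkpos (by omega)
    obtain ⟨d', hd', hne⟩ := Finset.exists_ne_zero_of_sum_ne_zero hpos.ne'
    obtain ⟨g, hg⟩ := Finset.card_ne_zero.1 hne
    obtain ⟨hgD, -, -, -⟩ := hkey d' hd' g hg
    obtain ⟨hd'D, hd'a⟩ := hmZ.1 hd'
    set u := d' * a with hu
    simp only [hN, Finset.mem_filter] at hg
    have hstab : ∀ x, MulAut.conj u x ∈ blk g ↔ x ∈ blk g := by
      intro x
      have h := hact u g hgD
      rw [(hblk_eq (S.normal u g hgD) hgD).2 hg.2] at h
      conv_lhs => rw [← h, mem_conjFinset]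
      simp [mul_assoc]
    have hm := card_fixed_modEq hp (MulAut.conj u).toEquiv (by
      ext x
      have : ((MulAut.conj u).toEquiv ^ p) x = ((MulAut.conj u) ^ p) x := by
        change ((MulAut.toPerm G) (MulAut.conj u) ^ p) x = _
        rw [← map_pow]; rfl
      rw [this, ← map_pow, hup d' hd', map_one]; rfl) (blk g) hstab
    have h0 : (blk g).filter (fun x => (MulAut.conj u).toEquiv x = x) = ∅ := by
      rw [Finset.filter_eq_empty_iff]
      intro x hx he
      obtain ⟨hxD, -⟩ := hmb.1 hx
      have hux : u * x * u⁻¹ = x := by simpa using he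
      have hxN : x ∈ N u := by
        simp only [hN, Finset.mem_filter]
        exact ⟨hmV.2 hxD, by rw [hux]⟩
      obtain ⟨-, hax, -, -⟩ := hkey d' hd' x hxN
      rw [hu, mul_inv_rev, inv_self (S.sq a ha), inv_self (S.sq d' hd'D)] at hux
      have key : a * x * a = d' * x * d' := by
        calc a * x * a = d' * (d' * a * x * (a * d')) * d' := by
              simp only [mul_assoc, cancel_inv (S.sq d' hd'D), S.sq d' hd'D, mul_one]
          _ = d' * x * d' := by rw [hux]
      exact hd'a (by rw [S.mid_unique hxD ha hd'D (fun h => hax h.symm) key])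
    rw [h0, Finset.card_empty, hbg g hgD] at hm
    exact Nat.modEq_zero_iff_dvd.1 hm.symm
  -- compare
  have hsum2 : (∑ d' ∈ Z, F (d' * a)) * b = (n - 1) * (b - 1) * b := by
    rw [Finset.sum_mul, ← Finset.sum_congr rfl (fun d' _ => hNF (d' * a)), hsum]
    have : Z.card = (n - 1) * b := by rw [Nat.sub_mul, one_mul]; omega
    rw [this]; ring
  have hS : ∑ d' ∈ Z, F (d' * a) = (n - 1) * (b - 1) :=
    Nat.eq_of_mul_eq_mul_right (by omega) hsum2
  have hdvd : p ∣ ∑ d' ∈ Z, F (d' * a) := Finset.dvd_sum fun d' hd' =>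
    Nat.modEq_zero_iff_dvd.1 ((hFmod _ (hup d' hd')).trans (Nat.modEq_zero_iff_dvd.2 hn0))
  rw [hS] at hdvd
  have hn1 : 1 ≤ n := by
    by_contra h
    have : n = 0 := by omega
    rw [this] at hk; omega
  rcases hp.dvd_mul.1 hdvd with h | h
  · have := Nat.dvd_sub hn0 h
    rw [show n - (n - 1) = 1 by omega] at this
    exact hp.not_dvd_one this
  · have := Nat.dvd_sub hb0 h
    rw [show b - (b - 1) = 1 by omega] at this
    exact hp.not_dvd_one this

end Minimal

/-- No normal set of involutions whose non-commuting products have order a prime `p ≥ 5` has a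
bad triple. -/
theorem not_bad_aux (p : ℕ) : ∀ (n : ℕ) (G : Type u) [Group G] [Finite G], Nat.card G = n →
    ∀ (D : Set G), Sys p D → ∀ z a w : G, ¬ Bad D z a w := by
  intro n
  induction n using Nat.strong_induction_on with
  | _ n ih =>
    intro G _ _ hn D S z a w B
    obtain ⟨hz, ha, hw, haw, hza, hzw, himg⟩ := B
    have hcz : IsConj a z := S.isConj_of_not_commute ha hz (fun e => hza e.symm)
    have hcw : IsConj a w := hcz.trans (S.isConj_of_not_commute hz hw hzw)
    let D₀ : Set G := {x | x ∈ D ∧ IsConj a x}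
    have S₀ : Sys p D₀ := ⟨S.prime, S.five, fun x hx => S.sq x hx.1, fun x hx => S.ne_one x hx.1,
      fun g x hx => ⟨S.normal g x hx.1, hx.2.trans (isConj_iff.2 ⟨g, rfl⟩)⟩,
      fun x hx y hy => S.prod x hx.1 y hy.1⟩
    refine Minimal.false_of (D := D₀) (z := z) (a := a) (w := w)
      ⟨S₀, ⟨⟨hz, hcz⟩, ⟨ha, IsConj.refl a⟩, ⟨hw, hcw⟩, haw, hza, hzw, himg⟩,
        fun x hx y hy => hx.2.symm.trans hy.2, ?_⟩
    intro Q _ _ hQ
    exact ih (Nat.card Q) (hn ▸ hQ) Q rfl

theorem not_bad [Finite G] {p : ℕ} {D : Set G} (S : Sys p D) (z a w : G) : ¬ Bad D z a w :=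
  not_bad_aux p _ G rfl D S z a w

end Cfsg.Agent.TransP
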