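import Cfsg.Agent.Lib.Spor.TransP.Basic

/-!
A normal set of involutions whose non-commuting products all have order `p ≥ 5` has no bad
triple: reduction of a smallest counterexample to commuting being transitive with the product of
two commuting members again a member, followed by a count of blocks modulo `p`.
-/

set_option autoImplicit false

namespace Cfsg.Agent.TransP

universe u

/-- No group of smaller order has a bad triple. -/
def Small (p : ℕ) (G : Type u) : Prop :=
  ∀ (Q : Type u) [Group Q] [Finite Q], Nat.card Q < Nat.card G →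
    ∀ (D' : Set Q), Sys p D' → ∀ z a w : Q, ¬ Bad D' z a w

section
variable {G : Type u} [Group G] {p : ℕ} {D : Set G}

theorem Sys.map (S : Sys p D) {Q : Type u} [Group Q] (f : G →* Q) (hf : Function.Surjective f) :
    Sys p (f '' {x | x ∈ D ∧ f x ≠ 1}) where
  prime := S.prime
  five := S.five
  sq := by
    rintro _ ⟨x, ⟨hx, -⟩, rfl⟩
    rw [← map_mul, S.sq x hx, map_one]
  ne_one := by
    rintro _ ⟨x, ⟨-, hx⟩, rfl⟩
    exact hx
  normal := by
    rintro g _ ⟨x, ⟨hx, hx1⟩, rfl⟩
    obtain ⟨g, rfl⟩ := hf g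
    refine ⟨g * x * g⁻¹, ⟨S.normal g x hx, fun e => hx1 ?_⟩, by simp⟩
    rw [map_mul, map_mul, map_inv, mul_inv_eq_one, mul_eq_left] at e
    exact e
  prod := by
    rintro _ ⟨x, ⟨hx, -⟩, rfl⟩ _ ⟨y, ⟨hy, -⟩, rfl⟩ h
    rw [← map_mul, ← map_pow, S.prod x hx y hy (fun c => h (c.map f)), map_one]

theorem Sys.bad_map (S : Sys p D) {Q : Type u} [Group Q] (f : G →* Q) {z a w : G}
    (B : Bad D z a w) (hz : f z ≠ 1) (ha : f a ≠ 1) (hw : f w ≠ 1)
    (hker : ∀ x ∈ D, ∀ y ∈ D, ¬ Commute x y → f (x * y) ≠ 1) :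
    Bad (f '' {x | x ∈ D ∧ f x ≠ 1}) (f z) (f a) (f w) := by
  obtain ⟨hzD, haD, hwD, haw, hza, hzw, hne⟩ := B
  have key : ∀ x ∈ D, ∀ y ∈ D, ¬ Commute x y → ¬ Commute (f x) (f y) := by
    intro x hx y hy hxy hc
    refine hker x hx y hy hxy ?_
    have h1 : f (x * y) ^ p = 1 := by rw [← map_pow, S.prod x hx y hy hxy, map_one]
    have h2 : f (x * y) ^ 2 = 1 := by
      rw [map_mul, pow_two, hc.symm.mul_mul_mul_comm, ← map_mul, ← map_mul, S.sq x hx,
        S.sq y hy, map_one, one_mul]
    have := pow_gcd_eq_one.2 ⟨h2, h1⟩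
    rwa [show Nat.gcd 2 p = 1 from S.two_coprime, pow_one] at this
  refine ⟨⟨z, ⟨hzD, hz⟩, rfl⟩, ⟨a, ⟨haD, ha⟩, rfl⟩, ⟨w, ⟨hwD, hw⟩, rfl⟩, haw.map f,
    key z hzD a haD hza, key z hzD w hwD hzw, ?_⟩
  have := key _ (S.conj_mem haD hzD) _ (S.conj_mem hwD hzD) hne
  simpa only [map_mul] using this

theorem card_quotient_lt [Finite G] {N : Subgroup G} (h : N ≠ ⊥) :
    Nat.card (G ⧸ N) < Nat.card G := by
  rw [N.card_eq_card_quotient_mul_card_subgroup]
  have h1 : 1 < Nat.card N := (Subgroup.one_lt_card_iff_ne_bot _).2 h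
  have h2 : 0 < Nat.card (G ⧸ N) := Nat.card_pos
  nlinarith

theorem mem_zpowers_sq {q x : G} (hq : q * q = 1) (hx : x ∈ Subgroup.zpowers q) :
    x = 1 ∨ x = q := by
  obtain ⟨i, rfl⟩ := hx
  have h2 : q ^ (2 : ℤ) = 1 := by rw [zpow_two, hq]
  rcases Int.even_or_odd' i with ⟨j, rfl | rfl⟩
  · exact Or.inl (by simp only [zpow_mul, h2, one_zpow])
  · exact Or.inr (by simp only [zpow_add, zpow_mul, h2, one_zpow, one_mul, zpow_one])

end

/-- A smallest counterexample, with a single class of involutions. -/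
structure Minimal {G : Type u} [Group G] (p : ℕ) (D : Set G) (z a w : G) : Prop where
  sys : Sys p D
  bad : Bad D z a w
  tr : ∀ x ∈ D, ∀ y ∈ D, IsConj x y
  small : Small p G

namespace Minimal

variable {G : Type u} [Group G] [Finite G] {p : ℕ} {D : Set G} {z a w : G}

section
variable (M : Minimal p D z a w)
include M

theorem hz : z ∈ D := M.bad.1
theorem ha : a ∈ D := M.bad.2.1
theorem hw : w ∈ D := M.bad.2.2.1

/-- No central involution is centralised by the configuration. -/
theorem no_quotient {q : G} (hq : q * q = 1) (hq1 : q ≠ 1) (H : Subgroup G)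
    (hH : ∀ h ∈ H, Commute h q) (hqH : q ∈ H)
    {z' a' w' : G} (B : Bad D z' a' w') (hz' : z' ∈ H) (ha' : a' ∈ H) (hw' : w' ∈ H) :
    q = z' ∨ q = a' ∨ q = w' := by
  by_contra hno
  push Not at hno
  have S := M.sys
  let DH : Set H := {h | (h : G) ∈ D}
  have SH : Sys p DH := ⟨S.prime, S.five, fun x hx => Subtype.ext (S.sq _ hx),
    fun x hx e => S.ne_one _ hx (by rw [e]; rfl), fun g x hx => S.normal _ _ hx,
    fun x hx y hy h => Subtype.ext (by
      simpa using S.prod _ hx _ hy (fun c => h (Subtype.ext c)))⟩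
  have BH : Bad DH ⟨z', hz'⟩ ⟨a', ha'⟩ ⟨w', hw'⟩ := by
    obtain ⟨h1, h2, h3, h4, h5, h6, h7⟩ := B
    exact ⟨h1, h2, h3, Subtype.ext h4, fun e => h5 (e.map H.subtype),
      fun e => h6 (e.map H.subtype), fun e => h7 (e.map H.subtype)⟩
  let qH : H := ⟨q, hqH⟩
  have hq2 : qH * qH = 1 := Subtype.ext hq
  haveI : (Subgroup.zpowers qH).Normal := ⟨fun n hn g => by
    obtain ⟨i, rfl⟩ := hn
    have hc : Commute g qH := Subtype.ext (hH g g.2)
    rw [(hc.zpow_right i).eq, mul_inv_cancel_right]
    exact ⟨i, rfl⟩⟩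
  let f := QuotientGroup.mk' (Subgroup.zpowers qH)
  have hf : ∀ x : H, f x = 1 ↔ x ∈ Subgroup.zpowers qH := fun x => by
    rw [← MonoidHom.mem_ker, QuotientGroup.ker_mk']
  have hne : ∀ x : H, x ∈ DH → q ≠ x → f x ≠ 1 := by
    intro x hx hxq e
    rcases mem_zpowers_sq hq2 ((hf x).1 e) with rfl | rfl
    · exact SH.ne_one 1 hx rfl
    · exact hxq rfl
  have hlt : Nat.card (H ⧸ Subgroup.zpowers qH) < Nat.card G := by
    refine lt_of_lt_of_le (card_quotient_lt ?_)
      (Nat.le_of_dvd Nat.card_pos (Subgroup.card_subgroup_dvd_card H))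
    intro e
    exact hq1 (congrArg Subtype.val (Subgroup.zpowers_eq_bot.1 e))
  refine M.small _ hlt _ (SH.map f (QuotientGroup.mk'_surjective _)) _ _ _
    (SH.bad_map f BH (hne _ B.1 hno.1) (hne _ B.2.1 hno.2.1) (hne _ B.2.2.1 hno.2.2) ?_)
  intro x hx y hy hxy e
  apply SH.not_commute_sq hx hy hxy
  rcases mem_zpowers_sq hq2 ((hf _).1 e) with h | h <;> rw [h]
  · exact one_mul 1
  · exact hq2

/-- In every bad triple the product of the commuting members is a member. -/
theorem bad_mul_mem {z' a' w' : G} (B : Bad D z' a' w') : a' * w' ∈ D := by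
  have S := M.sys
  obtain ⟨hz, ha, hw, haw, hza, hzw, hne⟩ := B
  have haa := S.sq _ ha
  have hww := S.sq _ hw
  have hwa : w' * a' = a' * w' := haw.eq.symm
  have hti : (a' * w')⁻¹ = a' * w' := by rw [mul_inv_rev, inv_self haa, inv_self hww, hwa]
  set t := a' * w' with ht
  have htt : t * t = 1 := (commute_iff_sq haa hww).1 haw
  have hz'D : t * z' * t⁻¹ ∈ D := S.normal t z' hz
  have hnz : ¬ Commute z' (t * z' * t⁻¹) := by
    intro hc
    apply hne
    have h1 := (Commute.conj_iff a').2 hc
    have e : a' * (t * z' * t⁻¹) * a'⁻¹ = w' * z' * w' := by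
      rw [hti, ht, inv_self haa]
      calc a' * (a' * w' * z' * (a' * w')) * a' = w' * z' * (a' * w' * a') := by
            simp only [mul_assoc, cancel_inv haa]
        _ = w' * z' * w' := by rw [mul_assoc a', hwa, cancel_inv haa]
    rwa [e, inv_self haa] at h1
  obtain ⟨d, hd, hdz, hdnz, -, hdt⟩ := S.exists_mid hz hz'D hnz
  have hswap : t * (t * z' * t⁻¹) * t⁻¹ = z' := by
    rw [hti]; simp only [mul_assoc, cancel_inv htt, htt, mul_one]
  have htd : Commute t d := hdt t rfl hswap
  have hne' : a' ≠ w' := fun e => hne (by rw [e])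
  have hda : Commute d a' := S.commute_of_commute_mul hd ha hw hne' haw htd.symm
  have hdw : Commute d w' :=
    S.commute_of_commute_mul hd hw ha hne'.symm haw.symm (hwa ▸ htd.symm)
  set q := d * t with hq
  have hdd := S.sq d hd
  have hqq : q * q = 1 := by
    rw [hq, htd.mul_mul_mul_comm, hdd, htt, one_mul]
  by_cases hq1 : q = 1
  · have : t = d := by
      rw [← one_mul t, ← hdd, mul_assoc, ← hq, hq1, mul_one]
    rw [this]; exact hd
  exfalso
  have hqz : Commute q z' := by
    have e : q * z' * q⁻¹ = z' := by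
      rw [inv_self hqq]
      calc q * z' * q = d * (t * z' * t⁻¹) * d := by
            rw [hq, hti]
            nth_rw 2 [show d * t = t * d from htd.symm.eq]
            group
        _ = z' := by
          rw [← hdz]; simp only [mul_assoc, cancel_inv hdd, hdd, mul_one]
    exact mul_inv_eq_iff_eq_mul.1 e
  have hqa : Commute q a' :=
    (hda.mul_left ((Commute.refl a').mul_left haw.symm))
  have hqw : Commute q w' :=
    (hdw.mul_left (haw.mul_left (Commute.refl w')))
  rcases M.no_quotient hqq hq1 (Subgroup.centralizer {q})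
      (fun h hh => (Subgroup.mem_centralizer_singleton_iff.1 hh : h * q = q * h))
      (Subgroup.mem_centralizer_singleton_iff.2 rfl)
      ⟨hz, ha, hw, haw, hza, hzw, hne⟩
      (Subgroup.mem_centralizer_singleton_iff.2 hqz.symm.eq)
      (Subgroup.mem_centralizer_singleton_iff.2 hqa.symm.eq)
      (Subgroup.mem_centralizer_singleton_iff.2 hqw.symm.eq) with e | e | e
  · exact hza (e ▸ hqa)
  · exact hza (e ▸ hqz).symm
  · exact hzw (e ▸ hqz).symm

/-- The configuration generates the group. -/
theorem closure_eq_top : Subgroup.closure ({z, a, w} : Set G) = ⊤ := by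
  by_contra hne
  set H := Subgroup.closure ({z, a, w} : Set G) with hH
  have S := M.sys
  let DH : Set H := {h | (h : G) ∈ D}
  have SH : Sys p DH := ⟨S.prime, S.five, fun x hx => Subtype.ext (S.sq _ hx),
    fun x hx e => S.ne_one _ hx (by rw [e]; rfl), fun g x hx => S.normal _ _ hx,
    fun x hx y hy h => Subtype.ext (by
      simpa using S.prod _ hx _ hy (fun c => h (Subtype.ext c)))⟩
  have hlt : Nat.card H < Nat.card G := by
    refine lt_of_le_of_ne (Nat.le_of_dvd Nat.card_pos (Subgroup.card_subgroup_dvd_card H)) ?_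
    exact fun e => hne (Subgroup.eq_top_of_card_eq H e)
  obtain ⟨h1, h2, h3, h4, h5, h6, h7⟩ := M.bad
  refine M.small H hlt DH SH ⟨z, Subgroup.subset_closure (by simp)⟩
    ⟨a, Subgroup.subset_closure (by simp)⟩ ⟨w, Subgroup.subset_closure (by simp)⟩ ?_
  exact ⟨h1, h2, h3, Subtype.ext h4, fun e => h5 (e.map H.subtype),
    fun e => h6 (e.map H.subtype), fun e => h7 (e.map H.subtype)⟩

end

end Minimal

/-- If `x`, `w` are non-commuting common neighbours of `m`, and `a` commutes with `w` but not
with `m`, then `a` commutes with `x`, provided bad triples have their product in `D`. -/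
theorem four_path {G : Type u} [Group G] {p : ℕ} {D : Set G} (S : Sys p D)
    (hP : ∀ z a w : G, Bad D z a w → a * w ∈ D)
    {x m w a : G} (hx : x ∈ D) (hm : m ∈ D) (hw : w ∈ D) (ha : a ∈ D)
    (hxm : Commute x m) (hwm : Commute w m) (hwa : Commute w a) (hxw : ¬ Commute x w)
    (ham : ¬ Commute a m) : Commute x a := by
  by_contra hxa
  set b := a * m * a with hb
  set b' := m * a * m with hb'
  have hbD : b ∈ D := S.conj_mem ha hm
  have hb'D : b' ∈ D := S.conj_mem hm ha
  have haa := S.sq a ha
  have hmm := S.sq m hm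
  have hma : ¬ Commute m a := fun e => ham e.symm
  have hbm : ¬ Commute b m := S.not_commute_conj hm ha hma
  have hb'm : ¬ Commute b' m := S.not_commute_conj' ha hm ham
  have hwb : Commute w b := (hwa.mul_right hwm).mul_right hwa
  have hwb' : Commute w b' := (hwm.mul_right hwa).mul_right hwm
  have hxb : ¬ Commute x b := fun e => hxa (S.line_closed hm ha ham hxm e)
  have hxb' : ¬ Commute x b' := by
    intro e
    apply hxa
    have := (hxm.mul_right e).mul_right hxm
    rwa [show m * b' * m = a by
      rw [hb']; simp only [mul_assoc, cancel_inv hmm, hmm, mul_one]] at this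
  set y := w * x * w with hy
  have good : ∀ e ∈ D, Commute w e → ¬ Commute x e → ¬ Commute e m →
      Commute x (e * y * e) := by
    intro e he hwe hxe hem
    have h0 : Commute (e * x * e) y := by
      by_contra hc
      have hmem := hP x e w ⟨hx, he, hw, hwe.symm, hxe, hxw, hc⟩
      rw [← hwe.eq] at hmem
      exact S.mul_not_mem hm he (fun h => hem h.symm) (S.sq w hw) (S.ne_one w hw) hwm hwe hmem
    have := (Commute.conj_iff e).2 h0
    rwa [inv_self (S.sq e he), show e * (e * x * e) * e = x by
      simp only [mul_assoc, cancel_inv (S.sq e he), S.sq e he, mul_one]] at this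
  have h1 := good b hbD hwb hxb hbm
  have h2 := good b' hb'D hwb' hxb' hb'm
  have hmy : Commute m y := (hwm.symm.mul_right hxm.symm).mul_right hwm.symm
  set c := b * y * b with hc
  -- `c` also commutes with `a * x * a`
  have h3 : Commute (a * x * a) c := by
    have := (Commute.conj_iff a).2 h2
    rw [inv_self haa] at this
    have e : a * (b' * y * b') * a = c := by
      calc a * (b' * y * b') * a = (a * m * a) * (m * y * m) * (a * m * a) := by
            rw [hb']; group
        _ = c := by rw [hmy.eq, mul_assoc y, hmm, mul_one]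
    rwa [e] at this
  have hca : Commute c a :=
    S.line_closed hx ha (fun e => hxa e.symm) h1.symm h3.symm
  -- hence `y` commutes with `b * a * b`
  have h4 : Commute y (b * a * b) := by
    have := (Commute.conj_iff b).2 hca
    rw [inv_self (S.sq b hbD)] at this
    rwa [hc, show b * (b * y * b) * b = y by
      simp only [mul_assoc, cancel_inv (S.sq b hbD), S.sq b hbD, mul_one]] at this
  have h5 : Commute x (b * a * b) := by
    have hwc : Commute w (b * a * b) := (hwb.mul_right hwa).mul_right hwb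
    have := (hwc.mul_left h4).mul_left hwc
    rwa [hy, show w * (w * x * w) * w = x by
      simp only [mul_assoc, cancel_inv (S.sq w hw), S.sq w hw, mul_one]] at this
  -- `b * a * b * m` is the cube of `a * m`
  have h6 : Commute x ((a * m) ^ 3) := by
    have e : (a * m) ^ 3 = b * a * b * m := by
      rw [hb, pow_succ, pow_two]
      simp only [mul_assoc, cancel_inv haa]
    rw [e]; exact h5.mul_right hxm
  have h7 := commute_root (S.prod a ha m hm ham) S.three_coprime h6
  apply hxa
  have := h7.mul_right hxm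
  rwa [mul_assoc, hmm, mul_one] at this

end Cfsg.Agent.TransP
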