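import Cfsg.Prelude.Def_SporadicB
import Cfsg.Prelude.Def_Solvable
import Cfsg.Agent.Lib.Spor.TransP.Count
import Cfsg.Agent.Lib.Char.ZStar
import Cfsg.Agent.Lib.Fusion.Cores
import Cfsg.Agent.S0200
import Cfsg.Agent.S0205

/-!
A generating class of involutions on which a group without solvable normal subgroups has rank
three is a class of 3-transpositions.
-/

set_option autoImplicit false

namespace Cfsg.Agent.TransP

open Cfsg

variable {G : Type*} [Group G] [Finite G]

section
variable (hsol : ∀ N : Subgroup G, N.Normal → Group.IsSolvable ↥N → N = ⊥)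
include hsol

theorem normal_two_group_bot (N : Subgroup G) (hn : N.Normal) (h : IsPGroup 2 N) : N = ⊥ := by
  haveI := Fact.mk Nat.prime_two
  haveI : Group.IsNilpotent N := h.isNilpotent
  exact hsol N hn inferInstance

theorem oddCore_eq_bot : oddCore G = ⊥ := by
  refine hsol _ ?_ (S0205.result (Char.card_oddCore_odd G))
  rw [oddCore]; exact Solv.pPrimeCore_normal 2

theorem commute_all_false {D : Set G} (hgen : Subgroup.closure D = ⊤) {x : G} (hx1 : x ≠ 1)
    (h : ∀ y ∈ D, Commute x y) : False := by
  have hcen : x ∈ Subgroup.center G := by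
    rw [Subgroup.mem_center_iff]
    intro g
    have hg : g ∈ Subgroup.centralizer ({x} : Set G) :=
      (Subgroup.closure_le _).2 (fun y hy => Subgroup.mem_centralizer_singleton_iff.2 (h y hy).symm.eq)
        (hgen ▸ Subgroup.mem_top g)
    exact (Subgroup.mem_centralizer_singleton_iff.1 hg)
  have := hsol (Subgroup.center G) inferInstance (Group.isSolvable_of_comm fun a b => Subtype.ext (Subgroup.mem_center_iff.1 b.2 a.1))
  rw [this, Subgroup.mem_bot] at hcen
  exact hx1 hcen

theorem all_odd_false {D : Set G} (hgen : Subgroup.closure D = ⊤)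
    (hnorm : ∀ (g : G), ∀ x ∈ D, g * x * g⁻¹ ∈ D) (hinv : ∀ d ∈ D, orderOf d = 2)
    {x : G} (hx : x ∈ D) (hodd : ∀ w ∈ D, Odd (orderOf (x * w))) : False := by
  have hxx : x * x = 1 := by rw [← pow_two, ← hinv x hx, pow_orderOf_eq_one]
  have hx1 : x ≠ 1 := fun e => by simpa [e] using hinv x hx
  have hO : Char.OddInvol x := ⟨hxx, hx1, fun g => hodd _ (hnorm g x hx)⟩
  exact commute_all_false hsol hgen hx1 (fun y _ => Char.zStar_central hO (oddCore_eq_bot hsol) y)

end

/-- The elements `x * (x * w) ^ i` are conjugates of `x` or `w`. -/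
theorem dihedral_conj {D : Set G} (hnorm : ∀ (g : G), ∀ x ∈ D, g * x * g⁻¹ ∈ D)
    {x w : G} (hx : x ∈ D) (hw : w ∈ D) (hxx : x * x = 1) (hww : w * w = 1) (i : ℕ) :
    x * (x * w) ^ i ∈ D := by
  induction i using Nat.twoStepInduction with
  | zero => simpa using hx
  | one => simpa [cancel_inv hxx] using hw
  | more j ih _ =>
    have h := hnorm (w * x) _ ih
    rw [mul_inv_rev, inv_self hxx, inv_self hww] at h
    convert h using 1
    calc x * (x * w) ^ (j + 2) = x * ((x * w) * (x * w) ^ j * (x * w)) := by
          rw [pow_succ, pow_succ']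
      _ = w * x * (x * (x * w) ^ j) * (x * w) := by
          simp only [mul_assoc, cancel_inv hxx]

/-- Case of an odd prime `p ≥ 5`. -/
theorem sys_false (hsol : ∀ N : Subgroup G, N.Normal → Group.IsSolvable ↥N → N = ⊥)
    {p : ℕ} {D : Set G} (S : Sys p D) {x : G} (hx : x ∈ D) (hgen : Subgroup.closure D = ⊤)
    (tr : ∀ x ∈ D, ∀ y ∈ D, IsConj x y)
    (hY : ∀ x ∈ D, ∃ y ∈ D, y ≠ x ∧ Commute x y)
    (tY : ∀ x ∈ D, ∀ y ∈ D, ∀ y' ∈ D, y ≠ x → y' ≠ x → Commute x y → Commute x y' →
      ∃ g : G, Commute g x ∧ g * y * g⁻¹ = y')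
    (tZ : ∀ x ∈ D, ∀ y ∈ D, ∀ y' ∈ D, ¬ Commute x y → ¬ Commute x y' →
      ∃ g : G, Commute g x ∧ g * y * g⁻¹ = y') : False := by
  classical
  have four : ∀ {x m y c : G}, x ∈ D → m ∈ D → y ∈ D → c ∈ D → Commute x m → Commute y m →
      Commute y c → ¬ Commute x y → ¬ Commute c m → Commute x c := fun hx hm hy hc =>
    four_path S (fun z a w B => (not_bad S z a w B).elim) hx hm hy hc
  by_cases T : ∀ x ∈ D, ∀ y ∈ D, ∀ y' ∈ D, Commute x y → Commute x y' → Commute y y'
  · -- commuting is transitive
    obtain ⟨y, hy, hne, hxy⟩ := hY x hx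
    set t := x * y with ht
    have hxx := S.sq x hx
    have hyy := S.sq y hy
    have hti : t⁻¹ = t := by rw [ht, mul_inv_rev, inv_self hxx, inv_self hyy, hxy.eq]
    have htN : t ∈ kern S T := by
      intro g hg
      by_cases hgx : Commute g x
      · have hgy : Commute g y := T x hx g hg y hy hgx.symm hxy
        rw [(hgx.mul_right hgy).symm.eq, mul_inv_cancel_right]
      · have hgy : ¬ Commute g y := fun e => hgx (T y hy g hg x hx e.symm hxy.symm)
        have h1 : Commute (x * g * x) (y * g * y) := by
          by_contra hn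
          exact not_bad S g x y ⟨hg, hx, hy, hxy, hgx, hgy, hn⟩
        have := (Commute.conj_iff x).2 h1
        rw [inv_self hxx] at this
        have e1 : x * (x * g * x) * x = g := by
          simp only [mul_assoc, cancel_inv hxx, hxx, mul_one]
        have e2 : x * (y * g * y) * x = t * g * t⁻¹ := by
          calc x * (y * g * y) * x = x * y * g * (y * x) := by group
            _ = _ := by rw [hti, ht, hxy.eq]
        rw [e1, e2] at this
        exact this.symm
    haveI := kern_normal S T
    set N := kern S T
    set B : Set G := {g | g ∈ D ∧ Commute x g}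
    set A := Subgroup.closure B with hA
    have hBB : ∀ g ∈ B, ∀ h ∈ B, Commute g h := fun g hg h hh =>
      T x hx g hg.1 h hh.1 hg.2 hh.2
    have hcomm : ∀ g ∈ A, ∀ h ∈ A, Commute g h := by
      intro g hg h hh
      have h1 : ∀ b ∈ B, Commute g b := by
        intro b hb
        have : g ∈ Subgroup.centralizer ({b} : Set G) :=
          (Subgroup.closure_le _).2
            (fun c hc => Subgroup.mem_centralizer_singleton_iff.2 (hBB c hc b hb).eq) hg
        exact Subgroup.mem_centralizer_singleton_iff.1 this
      have : h ∈ Subgroup.centralizer ({g} : Set G) :=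
        (Subgroup.closure_le _).2
          (fun c hc => Subgroup.mem_centralizer_singleton_iff.2 (h1 c hc).symm.eq) hh
      exact (Subgroup.mem_centralizer_singleton_iff.1 this : h * g = g * h).symm
    have hsq : ∀ g ∈ A, g * g = 1 := by
      intro g hg
      induction hg using Subgroup.closure_induction with
      | mem c hc => exact S.sq c hc.1
      | one => exact one_mul 1
      | mul c d hc hd ihc ihd => rw [(hcomm d hd c hc).mul_mul_mul_comm, ihc, ihd, one_mul]
      | inv c _ ihc => rw [← mul_inv_rev, ihc, inv_one]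
    haveI : (A.subgroupOf N).Normal := ⟨fun c hc n => by
      rw [Subgroup.mem_subgroupOf] at hc ⊢
      have : A ≤ A.comap (MulAut.conj (n : G)).toMonoidHom := by
        rw [hA, Subgroup.closure_le]
        intro b hb
        simp only [Subgroup.coe_comap, Set.mem_preimage, SetLike.mem_coe]
        refine Subgroup.subset_closure ⟨S.normal _ b hb.1, ?_⟩
        exact T b hb.1 x hx _ (S.normal _ b hb.1) hb.2.symm (n.2 b hb.1).symm
      simpa using this hc⟩
    have hp2 : IsPGroup 2 (A.subgroupOf N) := by
      intro c
      exact ⟨1, Subtype.ext (Subtype.ext (by simpa [pow_two] using hsq _ c.2))⟩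
    have htA : t ∈ A := mul_mem (Subgroup.subset_closure ⟨hx, Commute.refl x⟩)
      (Subgroup.subset_closure ⟨hy, hxy⟩)
    have hle : (pCore 2 N).map N.subtype = ⊥ := by
      haveI := Fact.mk Nat.prime_two
      exact normal_two_group_bot hsol _ inferInstance ((Fusion.isPGroup_pCore 2 N).map N.subtype)
    have : t ∈ (pCore 2 N).map N.subtype :=
      ⟨⟨t, htN⟩, Fusion.le_pCore hp2 (Subgroup.mem_subgroupOf.2 htA), rfl⟩
    rw [hle, Subgroup.mem_bot] at this
    have h2 := inv_eq_of_mul_eq_one_right this
    rw [inv_self hxx] at h2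
    exact hne h2.symm
  · push Not at T
    obtain ⟨m, hm, u, hu, v, hv, hmu, hmv, huv⟩ := T
    have hcommon : ∀ x ∈ D, ∀ a ∈ D, ¬ Commute x a → ∃ y ∈ D, Commute y x ∧ Commute y a := by
      intro x hx a ha hxa
      obtain ⟨c, hc⟩ := isConj_iff.1 (tr u hu x hx)
      have hv' : ¬ Commute x (c * v * c⁻¹) := fun e =>
        huv ((Commute.conj_iff c).1 (by rwa [hc]))
      obtain ⟨g, hgx, hg⟩ := tZ x hx _ (S.normal c v hv) a ha hv' hxa
      refine ⟨g * (c * m * c⁻¹) * g⁻¹, S.normal g _ (S.normal c m hm), ?_, ?_⟩
      · have h1 : Commute (c * m * c⁻¹) x := hc ▸ (Commute.conj_iff c).2 hmu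
        have h2 := (Commute.conj_iff g).2 h1
        rwa [hgx.eq, mul_inv_cancel_right] at h2
      · exact hg ▸ (Commute.conj_iff g).2 ((Commute.conj_iff c).2 hmv)
    by_cases hR : ∀ x ∈ D, ∀ a ∈ D, ∀ g ∈ D, ¬ Commute x a → Commute g x → g ≠ x → Commute g a
    · -- non-commuting is transitive
      obtain ⟨y, hy, hne, hmy⟩ := hY u hu
      have key : ∀ g : G, ∀ t ∈ D, (t = u ∨ ¬ Commute t u) →
          (g * t * g⁻¹ = u ∨ ¬ Commute (g * t * g⁻¹) u) := by
        intro g
        induction (hgen ▸ Subgroup.mem_top g : g ∈ Subgroup.closure D) using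
          Subgroup.closure_induction_left with
        | one => intro t _ h; simpa using h
        | mul_left d hd k _ ih =>
          intro t ht h
          rw [show d * k * t * (d * k)⁻¹ = d * (k * t * k⁻¹) * d⁻¹ by group, inv_self (S.sq d hd)]
          set s := k * t * k⁻¹
          have hs : s ∈ D := S.normal k t ht
          by_cases hds : Commute d s
          · rw [hds.eq, mul_assoc, S.sq d hd, mul_one]; exact ih t ht h
          · by_contra hcon
            push Not at hcon
            have hcs := S.not_commute_conj hs hd (fun e => hds e.symm)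
            rcases ih t ht h with h' | h'
            · refine hcs ?_; have := hcon.2; rwa [← h'] at this
            · exact hcs (hR u hu s hs _ (S.conj_mem hd hs) (fun e => h' e.symm) hcon.2 hcon.1)
        | inv_mul_cancel d hd k _ ih =>
          intro t ht h
          rw [show d⁻¹ * k * t * (d⁻¹ * k)⁻¹ = d⁻¹ * (k * t * k⁻¹) * d by group,
            inv_self (S.sq d hd)]
          set s := k * t * k⁻¹
          have hs : s ∈ D := S.normal k t ht
          by_cases hds : Commute d s
          · rw [hds.eq, mul_assoc, S.sq d hd, mul_one]; exact ih t ht h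
          · by_contra hcon
            push Not at hcon
            have hcs := S.not_commute_conj hs hd (fun e => hds e.symm)
            rcases ih t ht h with h' | h'
            · refine hcs ?_; have := hcon.2; rwa [← h'] at this
            · exact hcs (hR u hu s hs _ (S.conj_mem hd hs) (fun e => h' e.symm) hcon.2 hcon.1)
      obtain ⟨c, hc⟩ := isConj_iff.1 (tr u hu y hy)
      rcases key c u hu (Or.inl rfl) with h | h <;> rw [hc] at h
      · exact hne h
      · exact h hmy.symm
    · push Not at hR
      obtain ⟨x, hx, a, ha, g, hg, hxa, hgx, hgne, hga⟩ := hR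
      obtain ⟨y, hy, hyx, hya⟩ := hcommon x hx a ha hxa
      set V := (Set.toFinite D).toFinset
      have hmV : ∀ {w : G}, w ∈ V ↔ w ∈ D := fun {w} => (Set.toFinite D).mem_toFinset
      set C : G → Finset G := fun w => V.filter (fun e => Commute w e) with hC
      have hmC : ∀ {w e : G}, e ∈ C w ↔ e ∈ D ∧ Commute w e := by intro w e; simp [hC, hmV]
      have hCmap : ∀ (c w : G), (C w).map (MulAut.conj c).toEquiv.toEmbedding = C (c * w * c⁻¹) := by
        intro c w
        ext e
        simp only [Finset.mem_map_equiv, hmC]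
        change ((MulAut.conj c).symm e ∈ D ∧ _) ↔ _
        simp only [MulAut.conj_symm_apply]
        constructor
        · rintro ⟨h1, h2⟩
          have h1' := S.normal c _ h1
          have h2' := (Commute.conj_iff c).2 h2
          simp [mul_assoc] at h1' h2' ⊢
          exact ⟨h1', h2'⟩
        · rintro ⟨h1, h2⟩
          have h1' := S.normal c⁻¹ _ h1
          have h2' := (Commute.conj_iff c⁻¹).2 h2
          simp [mul_assoc] at h1' h2' ⊢
          exact ⟨h1', h2'⟩
      have hcard : ∀ w ∈ D, (C w).card = (C x).card := by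
        intro w hw
        obtain ⟨c, hc⟩ := isConj_iff.1 (tr x hx w hw)
        rw [← hc, ← hCmap, Finset.card_map]
      set M := C x ∩ C a with hM
      have hmM : ∀ {e : G}, e ∈ M ↔ e ∈ D ∧ Commute x e ∧ Commute a e := by
        intro e; simp [hM, hmC]; tauto
      have side : ∀ {s o e : G}, s ∈ D → o ∈ D → ¬ Commute s o → e ∈ C s → ¬ Commute o e →
          ∀ k ∈ D, Commute s k → Commute o k → Commute k e := by
        intro s o e hs ho hso he hoe k hk hsk hok
        obtain ⟨heD, hse⟩ := hmC.1 he
        by_contra hke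
        exact hoe (four ho hk hs heD hok hsk hse (fun h => hso h.symm) (fun h => hke h.symm))
      have hyM : y ∈ M := hmM.2 ⟨hy, hyx.symm, hya.symm⟩
      have hyX : C x \ M ⊆ C y := by
        intro e he
        obtain ⟨he1, he2⟩ := Finset.mem_sdiff.1 he
        obtain ⟨heD, hxe⟩ := hmC.1 he1
        exact hmC.2 ⟨heD, side hx ha hxa he1 (fun h => he2 (hmM.2 ⟨heD, hxe, h⟩)) y hy
          hyx.symm hya.symm⟩
      have hyA : C a \ M ⊆ C y := by
        intro e he
        obtain ⟨he1, he2⟩ := Finset.mem_sdiff.1 he
        obtain ⟨heD, hae⟩ := hmC.1 he1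
        exact hmC.2 ⟨heD, side ha hx (fun h => hxa h.symm) he1
          (fun h => he2 (hmM.2 ⟨heD, h, hae⟩)) y hy hya.symm hyx.symm⟩
      -- the two triangle counts agree
      have hlam : (C x ∩ C g).card = (C x ∩ C y).card := by
        obtain ⟨c, hcx, hc⟩ := tY x hx g hg y hy hgne
          (fun e => hxa (e ▸ hya).symm.symm) hgx.symm hyx.symm
        rw [← Finset.card_map (MulAut.conj c).toEquiv.toEmbedding, Finset.map_inter, hCmap, hCmap,
          hc, hcx.eq, mul_inv_cancel_right]
      have hsub : insert x (insert g M) ⊆ C x ∩ C g := by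
        intro e he
        simp only [Finset.mem_insert] at he
        rw [Finset.mem_inter, hmC, hmC]
        rcases he with rfl | rfl | he
        · exact ⟨⟨hx, Commute.refl _⟩, hx, hgx⟩
        · exact ⟨⟨hg, hgx.symm⟩, hg, Commute.refl _⟩
        · obtain ⟨heD, hxe, hae⟩ := hmM.1 he
          exact ⟨⟨heD, hxe⟩, heD, (side hx ha hxa (hmC.2 ⟨hg, hgx.symm⟩) (fun h => hga h.symm)
            e heD hxe hae).symm⟩
      have hxM : x ∉ M := fun h => hxa (hmM.1 h).2.2.symm
      have hgM : g ∉ M := fun h => hga (hmM.1 h).2.2.symm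
      have c1 := Finset.card_le_card hsub
      rw [Finset.card_insert_of_notMem (by simp [hxM, Ne.symm hgne]),
        Finset.card_insert_of_notMem hgM] at c1
      have c2 : ((C x \ M) ∪ (C a \ M) ∪ (M ∩ C y)).card ≤ (C y).card :=
        Finset.card_le_card (Finset.union_subset (Finset.union_subset hyX hyA)
          Finset.inter_subset_right)
      rw [Finset.card_union_of_disjoint, Finset.card_union_of_disjoint] at c2
      rotate_left
      · rw [Finset.disjoint_left]
        intro e he1 he2
        simp only [Finset.mem_sdiff, hM, Finset.mem_inter] at he1 he2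
        exact he1.2 ⟨he1.1, he2.1⟩
      · rw [Finset.disjoint_left]
        intro e he1 he2
        simp only [Finset.mem_union, Finset.mem_sdiff, Finset.mem_inter] at he1 he2
        rcases he1 with h | h <;> exact h.2 he2.1
      have c3 : (C x ∩ C y).card ≤ (C x \ M).card + (M ∩ C y).card := by
        refine le_trans (Finset.card_le_card ?_) (Finset.card_union_le _ _)
        intro e he
        simp only [Finset.mem_union, Finset.mem_sdiff, Finset.mem_inter] at he ⊢
        tauto
      have c4 := Finset.card_sdiff_add_card_eq_card (Finset.inter_subset_left : M ⊆ C x)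
      have c5 := Finset.card_sdiff_add_card_eq_card (Finset.inter_subset_right : M ⊆ C a)
      rw [hcard a ha] at c5
      rw [hcard y hy] at c2
      simp only [← hM] at c4 c5
      omega

end Cfsg.Agent.TransP
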